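import Groth.Prelude.Def_Magnet
import Mathlib.CategoryTheory.Sites.Over
import Mathlib.CategoryTheory.Sites.Subcanonical
import Mathlib.CategoryTheory.Sites.SheafOfTypes
import Mathlib.CategoryTheory.Monoidal.Cartesian.Basic

/-! # Sheaf properties of functors of equivariant maps and of fixed points -/

set_option autoImplicit false

universe v u

open CategoryTheory CategoryTheory.Limits MonoidalCategory CartesianMonoidalCategory Opposite

namespace GrothLib.MagnetSheaf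

/-- Representables on a localised subcanonical site are sheaves. -/
theorem isSheaf_yoneda_over {C : Type u} [Category.{v} C] (J : GrothendieckTopology C) [J.Subcanonical] {X : C}
    (Z : Over X) : Presieve.IsSheaf (J.over X) (yoneda.obj Z) := by
  intro Y R hR
  rw [J.mem_over_iff] at hR
  have hshZ : Presieve.IsSheaf J (yoneda.obj Z.left) :=
    GrothendieckTopology.Subcanonical.isSheaf_of_isRepresentable _
  have hshX : Presieve.IsSheaf J (yoneda.obj X) :=
    GrothendieckTopology.Subcanonical.isSheaf_of_isRepresentable _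
  have hmem : ∀ ⦃W : C⦄ (f : W ⟶ Y.left), Sieve.overEquiv Y R f →
      R (Over.homMk f rfl : Over.mk (f ≫ Y.hom) ⟶ Y) := by
    intro W f hf
    exact (Sieve.overEquiv_iff _ f).1 hf
  intro x hx
  let x' : Presieve.FamilyOfElements (yoneda.obj Z.left) (Sieve.overEquiv Y R).arrows :=
    fun W f hf => ((x _ (hmem f hf) : Over.mk (f ≫ Y.hom) ⟶ Z)).left
  have hx' : x'.Compatible := by
    intro W₁ W₂ W g₁ g₂ f₁ f₂ h₁ h₂ e
    have e' : (g₁ ≫ f₁) ≫ Y.hom = (g₂ ≫ f₂) ≫ Y.hom := congrArg (· ≫ Y.hom) e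
    have h := hx (Over.homMk g₁ (by simp [Category.assoc]) : Over.mk ((g₁ ≫ f₁) ≫ Y.hom) ⟶ Over.mk (f₁ ≫ Y.hom))
      (Over.homMk g₂ (show g₂ ≫ f₂ ≫ Y.hom = (g₁ ≫ f₁) ≫ Y.hom by rw [e', Category.assoc]) :
        Over.mk ((g₁ ≫ f₁) ≫ Y.hom) ⟶ Over.mk (f₂ ≫ Y.hom))
      (hmem f₁ h₁) (hmem f₂ h₂) (Over.OverMorphism.ext e)
    exact congrArg CommaMorphism.left h
  obtain ⟨g, hg, -⟩ := hshZ _ hR x' hx'
  have hgw : g ≫ Z.hom = Y.hom := by
    refine (hshX _ hR).isSeparatedFor.ext fun W f hf => ?_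
    change f ≫ g ≫ Z.hom = f ≫ Y.hom
    rw [← Category.assoc, show f ≫ g = x' f hf from hg f hf]
    exact Over.w (x _ (hmem f hf) : Over.mk (f ≫ Y.hom) ⟶ Z)
  refine ⟨Over.homMk g hgw, fun W f hf => ?_, fun g' hg' => ?_⟩
  · apply Over.OverMorphism.ext
    change f.left ≫ g = (x f hf : W ⟶ Z).left
    have hf' : Sieve.overEquiv Y R f.left := by
      rw [Sieve.overEquiv_iff]
      exact R.downward_closed hf (Over.homMk (𝟙 W.left) (by simp) : Over.mk (f.left ≫ Y.hom) ⟶ W) |> fun h => by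
        have he : (Over.homMk (𝟙 W.left) (by simp) : Over.mk (f.left ≫ Y.hom) ⟶ W) ≫ f =
            (Over.homMk f.left rfl : Over.mk (f.left ≫ Y.hom) ⟶ Y) := Over.OverMorphism.ext (Category.id_comp _)
        rwa [he] at h
    refine (hg f.left hf').trans ?_
    have h := hx (𝟙 (Over.mk (f.left ≫ Y.hom))) (Over.homMk (𝟙 W.left) (by simp) : Over.mk (f.left ≫ Y.hom) ⟶ W)
      (hmem _ hf') hf (Over.OverMorphism.ext (by simp))
    have h2 := congrArg CommaMorphism.left h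
    change 𝟙 _ ≫ _ = 𝟙 _ ≫ _ at h2
    rwa [Category.id_comp, Category.id_comp] at h2
  · apply Over.OverMorphism.ext
    change g'.left = g
    refine (hshZ _ hR).isSeparatedFor.ext fun W f hf => ?_
    change f ≫ g'.left = f ≫ g
    rw [show f ≫ g = x' f hf from hg f hf]
    exact congrArg CommaMorphism.left (hg' _ (hmem f hf))

variable {C : Type u} [Category.{v} C] [CartesianMonoidalCategory C] (J : GrothendieckTopology C)
variable {A B X : C} [MonObj A]

theorem isSheaf_fixedPsh (hX : Presieve.IsSheaf J (yoneda.obj X)) (a : Magnet.MonAct A X) :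
    Presieve.IsSheaf J (Magnet.MonAct.fixedPsh a) := by
  intro T R hR x hx
  let x' : Presieve.FamilyOfElements (yoneda.obj X) R.arrows := fun W f hf => (x f hf).1
  have hx' : x'.Compatible := fun W₁ W₂ W g₁ g₂ f₁ f₂ h₁ h₂ e => congrArg Subtype.val (hx g₁ g₂ h₁ h₂ e)
  obtain ⟨p, hp, hu⟩ := hX _ hR x' hx'
  refine ⟨⟨p, fun T' t g => ?_⟩, fun W f hf => Subtype.ext (hp f hf), fun q hq => Subtype.ext (hu q.1 fun W f hf =>
    congrArg Subtype.val (hq f hf))⟩
  refine (hX _ (J.pullback_stable t hR)).isSeparatedFor.ext fun W k hk => ?_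
  change k ≫ lift g (t ≫ p) ≫ a.act = k ≫ t ≫ p
  rw [comp_lift_assoc, ← Category.assoc k t p, show (k ≫ t) ≫ p = x' (k ≫ t) hk from hp _ hk]
  have h := (x (k ≫ t) hk).2 W (𝟙 W) (k ≫ g)
  rwa [Category.id_comp] at h

theorem isSheaf_eqvHom (hX : Presieve.IsSheaf J (yoneda.obj X))
    (ρ : Magnet.MonAct A B) (a : Magnet.MonAct A X) : Presieve.IsSheaf J (Magnet.MonAct.eqvHom ρ a) := by
  intro T R hR x hx
  let x' : Presieve.FamilyOfElements (yoneda.obj X) (R.pullback (snd B T)).arrows :=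
    fun W h hh => lift (h ≫ fst B T) (𝟙 W) ≫ (x (h ≫ snd B T) hh).1
  have hx' : x'.Compatible := by
    rw [Presieve.compatible_iff_sieveCompatible]
    intro W W' f g hf
    change lift ((g ≫ f) ≫ fst B T) (𝟙 W') ≫ (x ((g ≫ f) ≫ snd B T) _).1 =
      g ≫ lift (f ≫ fst B T) (𝟙 W) ≫ (x (f ≫ snd B T) hf).1
    have hmem : R (g ≫ f ≫ snd B T) := R.downward_closed hf g
    have key := hx (𝟙 W') g
      (show R ((g ≫ f) ≫ snd B T) by rw [Category.assoc]; exact hmem) hf (by simp [Category.assoc])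
    have key' := congrArg Subtype.val key
    change (B ◁ 𝟙 W') ≫ (x ((g ≫ f) ≫ snd B T) _).1 = (B ◁ g) ≫ (x (f ≫ snd B T) hf).1 at key'
    rw [MonoidalCategory.whiskerLeft_id, Category.id_comp] at key'
    rw [key', lift_whiskerLeft_assoc, Category.id_comp, comp_lift_assoc, Category.comp_id, ← Category.assoc g f]
  obtain ⟨Φ, hΦ, hu⟩ := hX _ (J.pullback_stable (snd B T) hR) x' hx'
  have hval : ∀ ⦃W : C⦄ (f : W ⟶ T) (hf : R f), (B ◁ f) ≫ Φ = (x f hf).1 := by
    intro W f hf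
    have hmem : R.pullback (snd B T) (B ◁ f) := by
      change R ((B ◁ f) ≫ snd B T)
      rw [whiskerLeft_snd]
      exact R.downward_closed hf _
    refine (hΦ _ hmem).trans ?_
    change lift ((B ◁ f) ≫ fst B T) (𝟙 (B ⊗ W)) ≫ (x ((B ◁ f) ≫ snd B T) hmem).1 = _
    have key := congrArg Subtype.val (hx (𝟙 (B ⊗ W)) (snd B W) hmem hf (by simp [whiskerLeft_snd]))
    change (B ◁ 𝟙 (B ⊗ W)) ≫ (x ((B ◁ f) ≫ snd B T) hmem).1 = (B ◁ snd B W) ≫ (x f hf).1 at key
    rw [MonoidalCategory.whiskerLeft_id, Category.id_comp] at key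
    rw [key, whiskerLeft_fst, lift_whiskerLeft_assoc, Category.id_comp, lift_fst_snd, Category.id_comp]
  have heq : Magnet.MonAct.IsEquivariant (ρ.prod (Magnet.MonAct.trivial A T)) a Φ := by
    rw [Magnet.MonAct.mem_eqvHom_iff]
    intro T' g b t
    refine (hX _ (J.pullback_stable t hR)).isSeparatedFor.ext fun W k hk => ?_
    change k ≫ lift (lift g b ≫ ρ.act) t ≫ Φ = k ≫ lift g (lift b t ≫ Φ) ≫ a.act
    have hpt : ∀ (b' : W ⟶ B), lift b' (k ≫ t) ≫ Φ = lift b' (𝟙 W) ≫ (x (k ≫ t) hk).1 := by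
      intro b'
      rw [← hval (k ≫ t) hk, lift_whiskerLeft_assoc, Category.id_comp]
    simp only [comp_lift_assoc, comp_lift, hpt]
    exact (Magnet.MonAct.mem_eqvHom_iff _).1 (x (k ≫ t) hk).2 W (k ≫ g) (k ≫ b) (𝟙 W)
  refine ⟨⟨Φ, heq⟩, fun W f hf => Subtype.ext (hval f hf), fun Ψ hΨ => Subtype.ext (hu Ψ.1 fun W h hh => ?_)⟩
  change h ≫ Ψ.1 = lift (h ≫ fst B T) (𝟙 W) ≫ (x (h ≫ snd B T) hh).1
  rw [← congrArg Subtype.val (hΨ (h ≫ snd B T) hh)]
  change h ≫ Ψ.1 = lift (h ≫ fst B T) (𝟙 W) ≫ (B ◁ (h ≫ snd B T)) ≫ Ψ.1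
  rw [lift_whiskerLeft_assoc, Category.id_comp, lift_comp_fst_snd]

end GrothLib.MagnetSheaf
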